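import Groth.Agent.MonoVal.Basic
import Groth.Agent.GITLib.Free
import Groth.Agent.SchPoints.Basic
import Mathlib.AlgebraicGeometry.Morphisms.UniversallyOpen
import Mathlib.AlgebraicGeometry.Morphisms.Immersion
import Mathlib.AlgebraicGeometry.Morphisms.FinitePresentation
import Mathlib.AlgebraicGeometry.IdealSheaf.Subscheme

/-!
Quasi-compactness and immersion criteria for monomorphisms to locally Noetherian schemes.
-/

set_option autoImplicit false
universe u

open CategoryTheory CategoryTheory.Limits AlgebraicGeometry IsLocalRing TopologicalSpace Topology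

namespace Groth.Agent.MonoVal

set_option backward.isDefEq.respectTransparency.types false
set_option linter.style.haveILetI false

theorem locallyOfFinitePresentation_of_lft {X Y : Scheme.{u}} (f : X ⟶ Y) [IsLocallyNoetherian Y]
    [LocallyOfFiniteType f] : LocallyOfFinitePresentation f := by
  rw [HasRingHomProperty.iff_appLE (P := @LocallyOfFinitePresentation.{u})]
  intro U V e
  haveI : IsNoetherianRing Γ(Y, U.1) := IsLocallyNoetherian.component_noetherian U
  exact RingHom.FinitePresentation.of_finiteType.mp (f.finiteType_appLE U.2 V.2 e)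

variable {X Y : Scheme.{u}} (f : Y ⟶ X) [Mono f]

section qc

/-- The hypothesis that dense liftable sets of integral affine test schemes contain liftable opens. -/
def DenseLift : Prop :=
  ∀ (A : Type u) [CommRing A] [IsDomain A] (s : Spec (CommRingCat.of A) ⟶ X)
    (D : Set ↥(Spec (CommRingCat.of A))), Dense D →
    (∀ p ∈ D, ∃ l : Spec ((Spec (CommRingCat.of A)).residueField p) ⟶ Y,
      l ≫ f = (Spec (CommRingCat.of A)).fromSpecResidueField p ≫ s) →
    ∃ U : (Spec (CommRingCat.of A)).Opens, (U : Set ↥(Spec (CommRingCat.of A))).Nonempty ∧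
      ∃ l : (U : Scheme.{u}) ⟶ Y, l ≫ f = U.ι ≫ s

theorem isCompact_preimage_closeds (hc : DenseLift f) {R : CommRingCat.{u}} [IsNoetherianRing R]
    (g : Spec R ⟶ X) [IsOpenImmersion g] (Z : Closeds ↥(Spec R)) :
    IsCompact (f ⁻¹' (g '' (Z : Set ↥(Spec R)))) := by
  induction Z using WellFoundedLT.induction with
  | _ Z ih =>
  by_cases hZ0 : (Z : Set ↥(Spec R)) = ∅
  · rw [hZ0, Set.image_empty, Set.preimage_empty]; exact isCompact_empty
  by_cases hirr : IsPreirreducible (Z : Set ↥(Spec R))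
  swap
  · rw [isPreirreducible_iff_isClosed_union_isClosed] at hirr
    push Not at hirr
    obtain ⟨z₁, z₂, h₁, h₂, hsub, hn₁, hn₂⟩ := hirr
    have key : ∀ z : Set ↥(Spec R), IsClosed z → ¬ (Z : Set ↥(Spec R)) ⊆ z →
        IsCompact (f ⁻¹' (g '' ((Z : Set ↥(Spec R)) ∩ z))) := fun z hz hn =>
      ih ⟨(Z : Set ↥(Spec R)) ∩ z, Z.isClosed.inter hz⟩
        (SetLike.coe_ssubset_coe.1 ⟨Set.inter_subset_left, fun h => hn fun x hx => (h hx).2⟩)
    have hdec : (Z : Set ↥(Spec R)) = (Z : Set ↥(Spec R)) ∩ z₁ ∪ (Z : Set ↥(Spec R)) ∩ z₂ := by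
      rw [← Set.inter_union_distrib_left, Set.inter_eq_left.2 hsub]
    rw [hdec, Set.image_union, Set.preimage_union]
    exact (key z₁ h₁ hn₁).union (key z₂ h₂ hn₂)
  let Zs : Set (PrimeSpectrum R) := (Z : Set ↥(Spec R))
  let P : Ideal R := PrimeSpectrum.vanishingIdeal Zs
  have hPirr : IsIrreducible Zs :=
    ⟨Set.nonempty_iff_ne_empty.2 hZ0, hirr⟩
  haveI : P.IsPrime := (PrimeSpectrum.isIrreducible_iff_vanishingIdeal_isPrime).1 hPirr
  let A : Type u := R ⧸ P
  let i : Spec (CommRingCat.of A) ⟶ Spec R := Spec.map (CommRingCat.ofHom (Ideal.Quotient.mk P))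
  have hi : Set.range i = (Z : Set ↥(Spec R)) := by
    show Set.range (PrimeSpectrum.comap (Ideal.Quotient.mk P)) = _
    rw [range_comap_of_surjective _ _ Ideal.Quotient.mk_surjective, Ideal.mk_ker,
      PrimeSpectrum.zeroLocus_vanishingIdeal_eq_closure]
    exact Z.isClosed.closure_eq
  have hiemb : IsEmbedding i := by
    haveI : IsClosedImmersion i := IsClosedImmersion.spec_of_surjective _ Ideal.Quotient.mk_surjective
    exact i.isEmbedding
  let D : Set ↥(Spec (CommRingCat.of A)) := (i ≫ g) ⁻¹' Set.range f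
  by_cases hD : Dense D
  · obtain ⟨U, hU, l, hl⟩ := hc A (i ≫ g) D hD fun p hp =>
      exists_factor (k := (Spec (CommRingCat.of A)).residueField p) f _ (closedPoint _) (by
        show (i ≫ g) ((Spec (CommRingCat.of A)).fromSpecResidueField p (closedPoint _)) ∈ Set.range f
        rw [Scheme.fromSpecResidueField_apply]
        exact hp)
    haveI : IsNoetherianRing (CommRingCat.of A) := inferInstanceAs (IsNoetherianRing (R ⧸ P))
    have hUc : IsCompact (U : Set ↥(Spec (CommRingCat.of A))) :=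
      haveI : NoetherianSpace ↥(Spec (CommRingCat.of A)) :=
        inferInstanceAs (NoetherianSpace (PrimeSpectrum (CommRingCat.of A)))
      NoetherianSpace.isCompact _
    haveI : CompactSpace ↥(U : Scheme.{u}) := isCompact_iff_compactSpace.1 hUc
    let W : Closeds ↥(Spec R) := ⟨i '' ((U : Set ↥(Spec (CommRingCat.of A)))ᶜ), by
      haveI : IsClosedImmersion i := IsClosedImmersion.spec_of_surjective _ Ideal.Quotient.mk_surjective
      exact i.isClosedEmbedding.isClosedMap _ U.2.isClosed_compl⟩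
    have hW : W < Z := by
      refine SetLike.coe_ssubset_coe.1 ⟨fun x hx => ?_, fun h => ?_⟩
      · obtain ⟨a, -, rfl⟩ := hx
        exact hi.le ⟨a, rfl⟩
      · obtain ⟨a, ha⟩ := hU
        obtain ⟨b, hb, hba⟩ := h (hi.le ⟨a, rfl⟩)
        exact hb (hiemb.injective hba ▸ ha)
    have hdec : f ⁻¹' (g '' (Z : Set ↥(Spec R))) = Set.range l ∪ f ⁻¹' (g '' (W : Set ↥(Spec R))) := by
      ext y
      constructor
      · rintro ⟨x, hx, hy⟩
        obtain ⟨a, rfl⟩ := hi.ge hx
        by_cases ha : a ∈ U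
        · refine Or.inl ⟨⟨a, ha⟩, f.injective ?_⟩
          rw [← Scheme.Hom.comp_apply, hl, ← hy]
          rfl
        · exact Or.inr ⟨i a, ⟨a, ha, rfl⟩, hy⟩
      · rintro (⟨a, rfl⟩ | ⟨x, hx, hy⟩)
        · refine ⟨i (U.ι a), hi.le ⟨_, rfl⟩, ?_⟩
          rw [← Scheme.Hom.comp_apply l f, hl]
          rfl
        · exact ⟨x, hW.le hx, hy⟩
    rw [hdec]
    exact (isCompact_range l.continuous).union (ih W hW)
  · let W : Closeds ↥(Spec R) := ⟨closure (i '' D), isClosed_closure⟩
    have hW : W < Z := by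
      refine SetLike.coe_ssubset_coe.1 ⟨closure_minimal ?_ Z.isClosed, fun h => hD fun a => ?_⟩
      · rintro _ ⟨a, -, rfl⟩
        exact hi.le ⟨a, rfl⟩
      · rw [hiemb.isInducing.closure_eq_preimage_closure_image]
        exact h (hi.le ⟨a, rfl⟩)
    have hdec : f ⁻¹' (g '' (Z : Set ↥(Spec R))) = f ⁻¹' (g '' (W : Set ↥(Spec R))) := by
      refine Set.Subset.antisymm ?_ (Set.preimage_mono (Set.image_mono hW.le))
      rintro y ⟨x, hx, hy⟩
      obtain ⟨a, rfl⟩ := hi.ge hx
      exact ⟨i a, subset_closure ⟨a, ⟨y, hy.symm⟩, rfl⟩, hy⟩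
    rw [hdec]
    exact ih W hW

theorem quasiCompact_of_denseLift [IsLocallyNoetherian X] (hc : DenseLift f) : QuasiCompact f := by
  rw [quasiCompact_iff_forall_isAffineOpen]
  intro V hV
  haveI : IsNoetherianRing Γ(X, V) := IsLocallyNoetherian.component_noetherian ⟨V, hV⟩
  have h := isCompact_preimage_closeds f hc hV.fromSpec ⊤
  rwa [Closeds.coe_top, Set.image_univ, hV.range_fromSpec] at h

end qc

section immersion

/-- The image is closed under generization inside its closure. -/
theorem mem_range_of_between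
    (H : ∀ (X' : Scheme.{u}) (g : X' ⟶ X), Reflects f g) (y₀ y₁ : Y) (c : X)
    (h₁ : f y₁ ⤳ c) (h₀ : c ⤳ f y₀) : c ∈ Set.range f := by
  let L := X.residueField (f y₁)
  let kc : X.presheaf.stalk (f y₀) ⟶ X.residueField c := X.presheaf.stalkSpecializes h₀ ≫ X.residue c
  let k1 : X.presheaf.stalk c ⟶ L := X.presheaf.stalkSpecializes h₁ ≫ X.residue (f y₁)
  obtain ⟨W, hW, hWloc⟩ := exists_factor_valuationRing k1.hom
  let ψ : X.presheaf.stalk c →+* W := k1.hom.codRestrict W.toSubring hW
  haveI : IsLocalHom ψ := hWloc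
  let j : X.residueField c →+* ResidueField W := ResidueField.map ψ
  obtain ⟨B, hB, hBloc⟩ := exists_factor_valuationRing (j.comp kc.hom)
  let θ : X.presheaf.stalk (f y₀) →+* B := (j.comp kc.hom).codRestrict B.toSubring hB
  haveI : IsLocalHom θ := hBloc
  let ρ : X.presheaf.stalk (f y₀) →+* W := ψ.comp (X.presheaf.stalkSpecializes h₀).hom
  have hres : ∀ a, residue W (ρ a) = j (kc.hom a) := fun a => rfl
  let V := LimLib.DVR.composite W B
  have hmem : ∀ a, (ρ a : L) ∈ V := fun a => by
    refine (LimLib.DVR.mem_composite W B).mpr ⟨(ρ a).2, ?_⟩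
    rw [show (⟨(ρ a : L), (ρ a).2⟩ : W) = ρ a from rfl, hres]
    exact hB a
  let η : X.presheaf.stalk (f y₀) →+* V := (W.subtype.comp ρ).codRestrict V.toSubring hmem
  let i₂ : Spec (CommRingCat.of V) ⟶ X := Spec.map (CommRingCat.ofHom η) ≫ X.fromSpecStalk (f y₀)
  have hgen : Spec.map (CommRingCat.ofHom V.subtype) ≫ i₂ = X.fromSpecResidueField (f y₁) := by
    have h : Spec.map (CommRingCat.ofHom V.subtype) ≫ i₂ =
        Spec.map (X.presheaf.stalkSpecializes h₀ ≫ X.presheaf.stalkSpecializes h₁ ≫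
          X.residue (f y₁)) ≫ X.fromSpecStalk (f y₀) := by
      rw [← Category.assoc, ← Spec.map_comp]
      rfl
    rw [h, Spec.map_comp, Spec.map_comp, Category.assoc, Category.assoc,
      Scheme.SpecMap_stalkSpecializes_fromSpecStalk, Scheme.SpecMap_stalkSpecializes_fromSpecStalk]
    rfl
  let π : V →+* ResidueField W := (residue W).comp (LimLib.DVR.compositeIncl W B)
  have hmid : Spec.map (CommRingCat.ofHom π) ≫ i₂ =
      Spec.map (CommRingCat.ofHom j) ≫ X.fromSpecResidueField c := by
    have h : Spec.map (CommRingCat.ofHom π) ≫ i₂ =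
        Spec.map (kc ≫ CommRingCat.ofHom j) ≫ X.fromSpecStalk (f y₀) := by
      rw [← Category.assoc, ← Spec.map_comp]
      congr 2
    rw [h, Spec.map_comp, Spec.map_comp, Category.assoc, Category.assoc,
      Scheme.SpecMap_stalkSpecializes_fromSpecStalk]
    rfl
  have hsurj : Function.Surjective (LimLib.DVR.compositeRes W B) := fun b => by
    obtain ⟨w, hw⟩ := residue_surjective (R := W) (b : ResidueField W)
    refine ⟨⟨w, (LimLib.DVR.mem_composite W B).mpr ⟨w.2, ?_⟩⟩, Subtype.ext hw⟩
    rw [show (⟨(w : L), w.2⟩ : W) = w from rfl, hw]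
    exact b.2
  haveI : IsLocalHom (LimLib.DVR.compositeRes W B) := by
    refine ((local_hom_TFAE _).out 4 0).1 ?_
    haveI := Ideal.comap_isMaximal_of_surjective (K := maximalIdeal B) _ hsurj
    exact IsLocalRing.eq_maximalIdeal inferInstance
  haveI : IsLocalHom η := by
    have : (LimLib.DVR.compositeRes W B).comp η = θ := RingHom.ext fun a => Subtype.ext (hres a)
    refine ⟨fun a ha => hBloc.map_nonunit a ?_⟩
    show IsUnit (θ a)
    rw [← this]
    exact ha.map (LimLib.DVR.compositeRes W B)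
  have hc0 : i₂ (closedPoint V) = f y₀ := by
    show X.fromSpecStalk (f y₀) (Spec.map (CommRingCat.ofHom η) (closedPoint V)) = f y₀
    rw [LimLib.DVR.map_closedPoint]
    exact Scheme.fromSpecStalk_closedPoint
  obtain ⟨l₁, hl₁⟩ := exists_factor f (X.fromSpecResidueField (f y₁)) (closedPoint _)
    ⟨y₁, (Scheme.fromSpecResidueField_apply (f y₁) _).symm⟩
  let S : ValuativeCommSq f :=
    { R := V, K := L, i₁ := l₁, i₂ := i₂, commSq := ⟨hl₁.trans hgen.symm⟩ }
  obtain ⟨⟨⟨l, -, hl⟩⟩⟩ := hasLift_of_reflects f H S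
    (exists_factor f (Spec.map (CommRingCat.ofHom (residue V)) ≫ i₂) (closedPoint _)
      ⟨y₀, by rw [Scheme.Hom.comp_apply, LimLib.DVR.map_closedPoint, hc0]⟩)
  replace hl : l ≫ f = i₂ := hl
  refine ⟨l (Spec.map (CommRingCat.ofHom π) (closedPoint _)), ?_⟩
  rw [← Scheme.Hom.comp_apply, hl, ← Scheme.Hom.comp_apply, hmid, Scheme.Hom.comp_apply,
    Scheme.fromSpecResidueField_apply]

/-- A quasi-compact, locally finitely presented monomorphism to a locally Noetherian scheme all of
whose base changes reflect specializations is an immersion. -/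
theorem isImmersion_of_reflects [IsLocallyNoetherian X] [LocallyOfFinitePresentation f]
    [QuasiCompact f] (H : ∀ (X' : Scheme.{u}) (g : X' ⟶ X), Reflects f g) : IsImmersion f := by
  haveI : IsLocallyNoetherian f.image := LocallyOfFiniteType.isLocallyNoetherian f.imageι
  haveI : LocallyOfFiniteType f.toImage :=
    haveI : LocallyOfFiniteType (f.toImage ≫ f.imageι) := by rw [f.toImage_imageι]; infer_instance
    locallyOfFiniteType_of_comp f.toImage f.imageι
  haveI := locallyOfFinitePresentation_of_lft f.toImage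
  haveI : Mono f.toImage := mono_of_mono_fac f.toImage_imageι
  have hT : ∀ y, f.imageι (f.toImage y) = f y := fun y => by
    rw [← Scheme.Hom.comp_apply, f.toImage_imageι]
  have hfst : ∀ y₀ y₁ : Y, f y₁ ⤳ f y₀ → y₁ ⤳ y₀ := fun y₀ y₁ h => by
    haveI : IsIso (pullback.fst f (𝟙 X)) := inferInstance
    have hs : ∀ y, pullback.snd f (𝟙 X) (inv (pullback.fst f (𝟙 X)) y) = f y := fun y => by
      have he : inv (pullback.fst f (𝟙 X)) ≫ pullback.snd f (𝟙 X) = f := by
        rw [IsIso.inv_comp_eq, pullback.condition, Category.comp_id]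
      exact congrArg (fun m : Y ⟶ X => m y) he
    have := (H X (𝟙 X) (inv (pullback.fst f (𝟙 X)) y₀) (inv (pullback.fst f (𝟙 X)) y₁)
      (by show _ ⤳ _; rw [hs, hs]; exact h)).map (pullback.fst f (𝟙 X)).continuous
    rw [← Scheme.Hom.comp_apply, ← Scheme.Hom.comp_apply, IsIso.inv_hom_id] at this
    exact this
  have hgen : GeneralizingMap f.toImage := by
    intro y z' hz'
    replace hz' : z' ⤳ f.toImage y := hz'
    have hd : z' ∈ closure (Set.range f.toImage) := f.toImage.denseRange z'
    obtain ⟨y₁, hy₁⟩ := SchPoints.exists_specializes_of_mem_closure_range f.toImage hd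
    have h1 : f y₁ ⤳ f.imageι z' := hT y₁ ▸ hy₁.map f.imageι.continuous
    have h0 : f.imageι z' ⤳ f y := hT y ▸ hz'.map f.imageι.continuous
    obtain ⟨y', hy'⟩ := mem_range_of_between f H y y₁ (f.imageι z') h1 h0
    have hy'z : f.toImage y' = z' := f.imageι.isEmbedding.injective ((hT y').trans hy')
    exact ⟨y', hfst y y' (hy' ▸ h0), hy'z⟩
  have hopen : IsOpen (Set.range f.toImage) :=
    (isOpenMap_of_generalizingMap f.toImage hgen).isOpen_range
  let U : f.image.Opens := ⟨Set.range f.toImage, hopen⟩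
  let g : Y ⟶ U := IsOpenImmersion.lift U.ι f.toImage (by rw [Scheme.Opens.range_ι]; rfl)
  have hg : g ≫ U.ι = f.toImage := IsOpenImmersion.lift_fac _ _ _
  have hgf : g ≫ U.ι ≫ f.imageι = f := by rw [← Category.assoc, hg, f.toImage_imageι]
  haveI : Mono g := mono_of_mono_fac hgf
  haveI : LocallyOfFiniteType (g ≫ U.ι) := by rw [hg]; infer_instance
  haveI : LocallyOfFiniteType g := locallyOfFiniteType_of_comp g U.ι
  haveI : QuasiCompact (g ≫ U.ι) := by rw [hg]; infer_instance
  haveI : QuasiCompact g := QuasiCompact.of_comp g U.ι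
  haveI : IsProper g := by
    refine IsProper.of_valuativeCriterion g fun S => ?_
    haveI := IsSeparated.valuativeCriterion g S
    let S' : ValuativeCommSq f :=
      { R := S.R
        K := S.K
        i₁ := S.i₁
        i₂ := S.i₂ ≫ U.ι ≫ f.imageι
        commSq := ⟨by
          rw [← Category.assoc (Spec.map _), ← S.commSq.w, Category.assoc, hgf]⟩ }
    obtain ⟨y, hy⟩ : U.ι (S.i₂ (closedPoint S.R)) ∈ Set.range f.toImage :=
      (S.i₂ (closedPoint S.R)).2
    obtain ⟨⟨⟨l, -, hl⟩⟩⟩ := hasLift_of_reflects f H S'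
      (exists_factor f (Spec.map (CommRingCat.ofHom (residue S.R)) ≫ S'.i₂) (closedPoint _)
        ⟨y, by
          rw [Scheme.Hom.comp_apply, LimLib.DVR.map_closedPoint, ← hT, hy]
          rfl⟩)
    replace hl : l ≫ f = S.i₂ ≫ U.ι ≫ f.imageι := hl
    have hlg : l ≫ g = S.i₂ := by
      rw [← cancel_mono (U.ι ≫ f.imageι), Category.assoc, hgf, hl]
    have hll : Spec.map (CommRingCat.ofHom (algebraMap S.R S.K)) ≫ l = S.i₁ := by
      rw [← cancel_mono g, Category.assoc, hlg]
      exact S.commSq.w.symm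
    exact ⟨{ default := ⟨l, hll, hlg⟩, uniq := fun _ => Subsingleton.elim _ _ }⟩
  haveI : IsClosedImmersion g := GITLib.isClosedImmersion_of_isProper_of_mono g
  rw [← hgf]
  infer_instance

end immersion

end Groth.Agent.MonoVal
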