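import Mathlib.AlgebraicGeometry.Pullbacks
import Mathlib.AlgebraicGeometry.PullbackCarrier
import Mathlib.AlgebraicGeometry.Morphisms.FiniteType
import Mathlib.RingTheory.FiniteType
import Mathlib.RingTheory.TensorProduct.Maps

/-!
Reflecting specializations after every base change follows from the case of base changes locally of
finite type.
-/

set_option autoImplicit false
universe u

open CategoryTheory CategoryTheory.Limits AlgebraicGeometry TensorProduct

namespace Groth.Agent.MonoVal

set_option backward.isDefEq.respectTransparency.types false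

variable {X Y : Scheme.{u}} (f : Y ⟶ X)

/-- The projection of the base change along `g` reflects specializations. -/
def Reflects {X' : Scheme.{u}} (g : X' ⟶ X) : Prop :=
  ∀ y₀ y₁ : ↥(pullback f g),
    (pullback.snd f g).base y₁ ⤳ (pullback.snd f g).base y₀ → y₁ ⤳ y₀

section algebra

variable {A B R : Type u} [CommRing A] [CommRing B] [CommRing R] [Algebra A B] [Algebra A R]

theorem exists_fg_mem_range (b : B ⊗[A] R) :
    ∃ R0 : Subalgebra A R, R0.FG ∧
      ∃ b0, Algebra.TensorProduct.map (AlgHom.id A B) R0.val b0 = b := by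
  induction b using TensorProduct.induction_on with
  | zero => exact ⟨⊥, Subalgebra.fg_bot, 0, map_zero _⟩
  | tmul x r => exact ⟨Algebra.adjoin A {r}, Subalgebra.fg_def.2 ⟨{r}, Set.finite_singleton r, rfl⟩,
      x ⊗ₜ ⟨r, Algebra.subset_adjoin rfl⟩, rfl⟩
  | add x y hx hy =>
    obtain ⟨R1, h1, x0, rfl⟩ := hx
    obtain ⟨R2, h2, y0, rfl⟩ := hy
    refine ⟨R1 ⊔ R2, h1.sup h2,
      Algebra.TensorProduct.map (AlgHom.id A B) (Subalgebra.inclusion le_sup_left) x0 +
        Algebra.TensorProduct.map (AlgHom.id A B) (Subalgebra.inclusion le_sup_right) y0, ?_⟩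
    rw [map_add, ← AlgHom.comp_apply, ← AlgHom.comp_apply, ← Algebra.TensorProduct.map_comp,
      ← Algebra.TensorProduct.map_comp]
    rfl

end algebra

theorem reflects_affine
    (h : ∀ (X' : Scheme.{u}) (g : X' ⟶ X) [LocallyOfFiniteType g], Reflects f g)
    {V : X.Opens} (hV : IsAffineOpen V) (R : CommRingCat.{u}) (φ : Γ(X, V) ⟶ R) :
    Reflects f (Spec.map φ ≫ hV.fromSpec) := by
  intro y₀ y₁ hsp
  have hyV : (pullback.fst f (Spec.map φ ≫ hV.fromSpec) ≫ f) y₀ ∈ V := by
    rw [pullback.condition, ← SetLike.mem_coe, ← hV.range_fromSpec, ← Category.assoc]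
    exact ⟨_, rfl⟩
  obtain ⟨W, hW, hyW, hWV⟩ := exists_isAffineOpen_mem_and_subset
    (x := pullback.fst f (Spec.map φ ≫ hV.fromSpec) y₀) (U := f ⁻¹ᵁ V) hyV
  replace hWV : W ≤ f ⁻¹ᵁ V := hWV
  let A : Type u := Γ(X, V)
  let B : Type u := Γ(Y, W)
  letI : Algebra A B := (f.appLE V W hWV).hom.toAlgebra
  letI : Algebra A R := φ.hom.toAlgebra
  -- the chart over a finite type stage
  let gS : ∀ (S : Type u) [CommRing S] [Algebra A S], Spec (CommRingCat.of S) ⟶ X := fun S _ _ =>
    Spec.map (CommRingCat.ofHom (algebraMap A S)) ≫ hV.fromSpec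
  let d : ∀ (S : Type u) [CommRing S] [Algebra A S],
      Spec (CommRingCat.of (B ⊗[A] S)) ⟶ pullback f (gS S) := fun S _ _ =>
    (pullbackSpecIso A B S).inv ≫ pullback.map (Spec.map (CommRingCat.ofHom (algebraMap A B)))
      (Spec.map (CommRingCat.ofHom (algebraMap A S))) f (gS S) hW.fromSpec (𝟙 _) hV.fromSpec
      (IsAffineOpen.SpecMap_appLE_fromSpec f hV hW hWV) (Category.id_comp _).symm
  have hdfst : ∀ (S : Type u) [CommRing S] [Algebra A S], d S ≫ pullback.fst f (gS S) =
      Spec.map (CommRingCat.ofHom (Algebra.TensorProduct.includeLeftRingHom : B →+* B ⊗[A] S)) ≫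
        hW.fromSpec := by
    intro S _ _
    simp only [d, Category.assoc, pullback.lift_fst]
    exact pullbackSpecIso_inv_fst_assoc _ _ _ _
  have hdsnd : ∀ (S : Type u) [CommRing S] [Algebra A S], d S ≫ pullback.snd f (gS S) =
      Spec.map (CommRingCat.ofHom
        (Algebra.TensorProduct.includeRight : S →ₐ[A] B ⊗[A] S).toRingHom) := by
    intro S _ _
    simp only [d, Category.assoc, pullback.lift_snd, Category.comp_id]
    exact pullbackSpecIso_inv_snd _ _ _
  have hd : ∀ (S : Type u) [CommRing S] [Algebra A S], IsOpenImmersion (d S) := by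
    intro S _ _
    exact inferInstanceAs (IsOpenImmersion (_ ≫ _))
  -- the projection to a stage
  let m : ∀ (R0 : Subalgebra A R), pullback f (gS R) ⟶ pullback f (gS R0) := fun R0 =>
    pullback.map _ _ _ _ (𝟙 Y) (Spec.map (CommRingCat.ofHom R0.val.toRingHom)) (𝟙 X)
      (by simp) (by
        rw [Category.comp_id, ← Category.assoc, ← Spec.map_comp]
        rfl)
  have hstage : ∀ R0 : Subalgebra A R, R0.FG → m R0 y₁ ⤳ m R0 y₀ := by
    intro R0 hR0
    haveI : Algebra.FiniteType A R0 := (Subalgebra.fg_iff_finiteType R0).1 hR0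
    haveI : LocallyOfFiniteType (Spec.map (CommRingCat.ofHom (algebraMap A R0))) :=
      (HasRingHomProperty.Spec_iff (P := @LocallyOfFiniteType.{u})).2
        (RingHom.finiteType_algebraMap.2 inferInstance)
    refine h _ (gS R0) _ _ ?_
    rw [← Scheme.Hom.comp_apply, ← Scheme.Hom.comp_apply, pullback.lift_snd]
    exact hsp.map (Spec.map _).continuous
  -- `y₁` lies in the chart
  have hfst : pullback.fst f (gS R) y₁ ⤳ pullback.fst f (gS R) y₀ := by
    have h1 := (hstage ⊥ Subalgebra.fg_bot).map (pullback.fst f (gS _)).continuous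
    rw [← Scheme.Hom.comp_apply, ← Scheme.Hom.comp_apply, pullback.lift_fst, Category.comp_id] at h1
    exact h1
  have hrange : ∀ y, pullback.fst f (gS R) y ∈ W → y ∈ Set.range (d R) := by
    intro y hy
    have hmem : y ∈ Set.range (pullback.map (Spec.map (CommRingCat.ofHom (algebraMap A B)))
        (Spec.map (CommRingCat.ofHom (algebraMap A R))) f (gS R) hW.fromSpec (𝟙 _) hV.fromSpec
        (IsAffineOpen.SpecMap_appLE_fromSpec f hV hW hWV) (Category.id_comp _).symm) := by
      rw [Scheme.Pullback.range_map]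
      exact ⟨by rw [Set.mem_preimage, hW.range_fromSpec]; exact hy, ⟨_, rfl⟩⟩
    obtain ⟨t, rfl⟩ := hmem
    refine ⟨(pullbackSpecIso A B R).hom t, ?_⟩
    rw [← Scheme.Hom.comp_apply]
    simp [d]
  obtain ⟨p₀, rfl⟩ := hrange y₀ hyW
  obtain ⟨p₁, rfl⟩ := hrange y₁ (hfst.mem_open W.2 hyW)
  refine Specializes.map ?_ (d R).continuous
  refine (PrimeSpectrum.le_iff_specializes p₁ p₀).1 fun b hb => ?_
  obtain ⟨R0, hR0, b0, rfl⟩ := exists_fg_mem_range (A := A) (B := B) (R := R) b
  have hnat : d R ≫ m R0 = Spec.map (CommRingCat.ofHom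
      (Algebra.TensorProduct.map (AlgHom.id A B) R0.val).toRingHom) ≫ d R0 := by
    apply pullback.hom_ext
    · refine (Category.assoc _ _ _).trans (Eq.trans ?_ (Category.assoc _ _ _).symm)
      rw [pullback.lift_fst, Category.comp_id, hdfst R, hdfst R0, ← Category.assoc, ← Spec.map_comp]
      congr 1
    · refine (Category.assoc _ _ _).trans (Eq.trans ?_ (Category.assoc _ _ _).symm)
      rw [pullback.lift_snd, hdsnd R0]
      refine (Category.assoc _ _ _).symm.trans ?_
      rw [hdsnd R, ← Spec.map_comp, ← Spec.map_comp]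
      congr 1
  have h1 := hstage R0 hR0
  rw [← Scheme.Hom.comp_apply, ← Scheme.Hom.comp_apply, hnat, Scheme.Hom.comp_apply,
    Scheme.Hom.comp_apply] at h1
  haveI := hd R0
  have h2 := (PrimeSpectrum.le_iff_specializes _ _).2
    ((d R0).isOpenEmbedding.isInducing.specializes_iff.1 h1)
  exact h2 hb

/-- Reflecting specializations may be tested on base changes locally of finite type. -/
theorem reflects_of_locallyOfFiniteType
    (h : ∀ (X' : Scheme.{u}) (g : X' ⟶ X) [LocallyOfFiniteType g], Reflects f g)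
    (X' : Scheme.{u}) (g : X' ⟶ X) : Reflects f g := by
  intro y₀ y₁ hsp
  obtain ⟨V, hV, hzV, -⟩ := exists_isAffineOpen_mem_and_subset
    (x := g (pullback.snd f g y₀)) (U := (⊤ : X.Opens)) trivial
  obtain ⟨N, hN, hzN, hNV⟩ := exists_isAffineOpen_mem_and_subset
    (x := pullback.snd f g y₀) (U := g ⁻¹ᵁ V) hzV
  let c : pullback f (hN.fromSpec ≫ g) ⟶ pullback f g :=
    pullback.map _ _ _ _ (𝟙 Y) hN.fromSpec (𝟙 X) (by simp) (by simp)
  have hrange : ∀ y, pullback.snd f g y ∈ N → y ∈ Set.range c := fun y hy => by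
    rw [Scheme.Pullback.range_map]
    exact ⟨⟨_, rfl⟩, by rw [Set.mem_preimage, hN.range_fromSpec]; exact hy⟩
  obtain ⟨x₀, rfl⟩ := hrange y₀ hzN
  obtain ⟨x₁, rfl⟩ := hrange y₁ (hsp.mem_open N.2 hzN)
  refine Specializes.map ?_ c.continuous
  have hg : Spec.map (g.appLE V N hNV) ≫ hV.fromSpec = hN.fromSpec ≫ g :=
    IsAffineOpen.SpecMap_appLE_fromSpec g hV hN hNV
  have key : Reflects f (hN.fromSpec ≫ g) := hg ▸ reflects_affine f h hV _ _
  refine key x₀ x₁ ?_
  rw [← Scheme.Hom.comp_apply, ← Scheme.Hom.comp_apply, pullback.lift_snd, Scheme.Hom.comp_apply,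
    Scheme.Hom.comp_apply] at hsp
  exact hN.fromSpec.isOpenEmbedding.isInducing.specializes_iff.1 hsp

end Groth.Agent.MonoVal
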