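import Groth.Agent.AlgSp.NoethFib
import Groth.Agent.DVRCrit.Basic
import Groth.Agent.LimLib.DVRGeneric
import Groth.Agent.MonoVal.Approx
import Mathlib.AlgebraicGeometry.ValuativeCriterion

/-!
Monomorphisms: reflecting specializations and lifting valuation rings with a lift of the closed point.
-/

set_option autoImplicit false
universe u

open CategoryTheory CategoryTheory.Limits AlgebraicGeometry IsLocalRing

namespace Groth.Agent.MonoVal

set_option backward.isDefEq.respectTransparency.types false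
set_option linter.style.haveILetI false

variable {X Y : Scheme.{u}} (f : Y ⟶ X) [Mono f]

/-- A field-valued point in the image of a monomorphism factors through it. -/
theorem exists_factor {k : Type u} [Field k] (a : Spec (CommRingCat.of k) ⟶ X)
    (p : ↥(Spec (CommRingCat.of k))) (h : a p ∈ Set.range f) : ∃ l, l ≫ f = a := by
  obtain ⟨y, hy⟩ := h
  obtain ⟨z, -, -⟩ := Scheme.Pullback.exists_preimage_pullback (f := f) (g := a) y p hy
  haveI : Nonempty ↥(pullback f a) := ⟨z⟩
  haveI : IsIso (pullback.snd f a) := AlgSp.isIso_of_mono_field _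
  exact ⟨inv (pullback.snd f a) ≫ pullback.fst f a, by simp [pullback.condition]⟩

/-- A valuative lift for the square attached to a specialization in the base change gives a
specialization upstairs. -/
theorem specializes_of_valuationSubring {X' : Scheme.{u}} (g : X' ⟶ X) (y₀ y₁ : ↥(pullback f g))
    (hsp : pullback.snd f g y₁ ⤳ pullback.snd f g y₀)
    (R : ValuationSubring (X'.residueField (pullback.snd f g y₁)))
    (hmem : ∀ a, (X'.presheaf.stalkSpecializes hsp ≫ X'.residue _).hom a ∈ R)
    (hloc : IsLocalHom ((X'.presheaf.stalkSpecializes hsp ≫ X'.residue _).hom.codRestrict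
      R.toSubring hmem))
    (H : ∀ (i₁ : Spec (X'.residueField (pullback.snd f g y₁)) ⟶ Y)
        (i₂ : Spec (CommRingCat.of R) ⟶ X),
        i₁ ≫ f = Spec.map (CommRingCat.ofHom R.subtype) ≫ i₂ →
        (∃ l₀ : Spec (CommRingCat.of (ResidueField R)) ⟶ Y,
            l₀ ≫ f = Spec.map (CommRingCat.ofHom (residue R)) ≫ i₂) →
          ∃ l, l ≫ f = i₂) :
    y₁ ⤳ y₀ := by
  let q := pullback.snd f g
  let z₁ := q y₁
  let z₀ := q y₀
  let φ := (X'.presheaf.stalkSpecializes hsp ≫ X'.residue z₁).hom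
  let ψ : X'.presheaf.stalk z₀ →+* R := φ.codRestrict R.toSubring hmem
  haveI : IsLocalHom ψ := hloc
  let j : Spec (CommRingCat.of R) ⟶ X' := Spec.map (CommRingCat.ofHom ψ) ≫ X'.fromSpecStalk z₀
  have hj₁ : Spec.map (CommRingCat.ofHom R.subtype) ≫ j = X'.fromSpecResidueField z₁ := by
    have h : Spec.map (CommRingCat.ofHom R.subtype) ≫ j =
        Spec.map (X'.presheaf.stalkSpecializes hsp ≫ X'.residue z₁) ≫ X'.fromSpecStalk z₀ := by
      rw [← Category.assoc, ← Spec.map_comp]
      rfl
    rw [h, Spec.map_comp, Category.assoc, Scheme.SpecMap_stalkSpecializes_fromSpecStalk]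
    rfl
  have hj₀ : j (closedPoint R) = z₀ := by
    show X'.fromSpecStalk z₀ (Spec.map (CommRingCat.ofHom ψ) (closedPoint R)) = z₀
    rw [LimLib.DVR.map_closedPoint]
    exact Scheme.fromSpecStalk_closedPoint
  -- the generic point lifts
  obtain ⟨l₁, hl₁⟩ := exists_factor q (X'.fromSpecResidueField z₁) (closedPoint _)
    ⟨y₁, (Scheme.fromSpecResidueField_apply z₁ _).symm⟩
  -- the closed point lifts
  obtain ⟨l₀, hl₀⟩ := exists_factor q
    (Spec.map (CommRingCat.ofHom (residue R)) ≫ j) (closedPoint _)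
    ⟨y₀, by rw [Scheme.Hom.comp_apply, LimLib.DVR.map_closedPoint, hj₀]⟩
  obtain ⟨l, hlf⟩ := H (l₁ ≫ pullback.fst f g) (j ≫ g) (by
      rw [Category.assoc, pullback.condition]
      refine (Category.assoc _ _ _).symm.trans ?_
      refine Eq.trans (congrArg (· ≫ g) (hl₁.trans hj₁.symm)) (Category.assoc _ _ _))
    ⟨l₀ ≫ pullback.fst f g, by
      rw [Category.assoc, pullback.condition]
      refine (Category.assoc _ _ _).symm.trans ?_
      exact (congrArg (· ≫ g) hl₀).trans (Category.assoc _ _ _)⟩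
  let l' := pullback.lift l j hlf
  have hl' : l' ≫ q = j := pullback.lift_snd _ _ _
  have hinj : Function.Injective q := q.injective
  have h0 : l' (closedPoint R) = y₀ := hinj (by
    rw [← Scheme.Hom.comp_apply, hl', hj₀])
  have h1 : l' (Spec.map (CommRingCat.ofHom R.subtype) default) = y₁ := hinj (by
    rw [← Scheme.Hom.comp_apply, hl', ← Scheme.Hom.comp_apply, hj₁,
      Scheme.fromSpecResidueField_apply])
  exact (specializes_of_eq h1.symm).trans
    (((specializes_closedPoint _).map l'.continuous).trans (specializes_of_eq h0))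

/-- Lifts for all valuation rings imply that all base changes reflect specializations. -/
theorem reflects_of_lifts
    (H : ∀ S : ValuativeCommSq f,
        (∃ l₀ : Spec (CommRingCat.of (ResidueField S.R)) ⟶ Y,
            l₀ ≫ f = Spec.map (CommRingCat.ofHom (residue S.R)) ≫ S.i₂) →
          S.commSq.HasLift)
    {X' : Scheme.{u}} (g : X' ⟶ X) : Reflects f g := by
  intro y₀ y₁ hsp
  obtain ⟨R, hmem, hloc⟩ := exists_factor_valuationRing
    (X'.presheaf.stalkSpecializes hsp ≫ X'.residue _).hom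
  refine specializes_of_valuationSubring f g y₀ y₁ hsp R hmem hloc fun i₁ i₂ w h₀ => ?_
  obtain ⟨⟨⟨l, -, hl⟩⟩⟩ := H { R := R, K := X'.residueField (pullback.snd f g y₁), i₁ := i₁, i₂ := i₂, commSq := ⟨w⟩ } h₀
  exact ⟨l, hl⟩

/-- Over a locally Noetherian base, lifts for discrete valuation rings suffice. -/
theorem reflects_of_dvr_lifts [IsLocallyNoetherian X]
    (H : ∀ S : ValuativeCommSq f, IsDiscreteValuationRing S.R →
        (∃ l₀ : Spec (CommRingCat.of (ResidueField S.R)) ⟶ Y,
            l₀ ≫ f = Spec.map (CommRingCat.ofHom (residue S.R)) ≫ S.i₂) →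
          S.commSq.HasLift) :
    ∀ (X' : Scheme.{u}) (g : X' ⟶ X), Reflects f g := by
  refine reflects_of_locallyOfFiniteType f fun X' g _ y₀ y₁ hsp => ?_
  haveI : IsLocallyNoetherian X' := LocallyOfFiniteType.isLocallyNoetherian g
  by_cases he : pullback.snd f g y₁ = pullback.snd f g y₀
  · rw [(pullback.snd f g).injective he]
  let φ := X'.presheaf.stalkSpecializes hsp ≫ X'.residue (pullback.snd f g y₁)
  have hgen : Subfield.closure (Set.range φ.hom ∪ ∅) = ⊤ := by
    rw [Set.union_empty]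
    obtain ⟨O, hO, hO0, -⟩ := exists_isAffineOpen_mem_and_subset
      (x := pullback.snd f g y₀) (U := (⊤ : X'.Opens)) trivial
    have hO1 := hsp.mem_open O.2 hO0
    have hall : ∀ p, X'.fromSpecResidueField (pullback.snd f g y₁) p ∈ O := fun p => by
      simpa using hO1
    rw [eq_top_iff, ← DVRCrit.closure_range_ev_residueField _ hO hall,
      DVRCrit.ev_fromSpecResidueField hO _ hO1]
    refine Subfield.closure_mono ?_
    rintro _ ⟨a, rfl⟩
    exact ⟨X'.presheaf.germ O _ hO0 a, ConcreteCategory.congr_hom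
      (X'.presheaf.germ_stalkSpecializes_assoc hO0 hsp (X'.residue _)) a⟩
  have hne : ∃ a ∈ maximalIdeal (X'.presheaf.stalk (pullback.snd f g y₀)), φ.hom a ≠ 0 := by
    by_contra! hcon
    apply he
    have h1 : Spec.map φ (closedPoint _) = closedPoint (X'.presheaf.stalk (pullback.snd f g y₀)) := by
      refine PrimeSpectrum.ext (le_antisymm (IsLocalRing.le_maximalIdeal ?_) fun a ha ↦ ?_)
      · exact (Spec.map φ (closedPoint _)).2.ne_top
      · show φ.hom a ∈ maximalIdeal (X'.residueField _)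
        rw [hcon a ha]
        exact zero_mem _
    have h2 : X'.fromSpecResidueField (pullback.snd f g y₁) (closedPoint _) =
        X'.fromSpecStalk (pullback.snd f g y₀) (Spec.map φ (closedPoint _)) := by
      rw [← Scheme.Hom.comp_apply]
      congr 1
      rw [Spec.map_comp, Category.assoc, Scheme.SpecMap_stalkSpecializes_fromSpecStalk]
      rfl
    rw [Scheme.fromSpecResidueField_apply, h1, Scheme.fromSpecStalk_closedPoint] at h2
    exact h2
  obtain ⟨R, hR, hmem, hdom⟩ := DVRCrit.exists_dvr_dominating' φ.hom Set.finite_empty hgen hne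
  refine specializes_of_valuationSubring f g y₀ y₁ hsp R hmem ?_ fun i₁ i₂ w h₀ => ?_
  · refine ((local_hom_TFAE _).out 3 0).1 fun a ha => ?_
    exact (R.valuation_lt_one_iff _).mpr (hdom a ha)
  · obtain ⟨⟨⟨l, -, hl⟩⟩⟩ := H { R := R, K := X'.residueField (pullback.snd f g y₁), i₁ := i₁, i₂ := i₂, commSq := ⟨w⟩ } hR h₀
    exact ⟨l, hl⟩

/-- Reflecting specializations after every base change gives lifts. -/
theorem hasLift_of_reflects (H : ∀ (X' : Scheme.{u}) (g : X' ⟶ X), Reflects f g)
    (S : ValuativeCommSq f)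
    (h₀ : ∃ l₀ : Spec (CommRingCat.of (ResidueField S.R)) ⟶ Y,
        l₀ ≫ f = Spec.map (CommRingCat.ofHom (residue S.R)) ≫ S.i₂) :
    S.commSq.HasLift := by
  obtain ⟨l₀, hl₀⟩ := h₀
  let q := pullback.snd f S.i₂
  let j₁ : Spec (CommRingCat.of S.K) ⟶ pullback f S.i₂ := pullback.lift S.i₁ _ S.commSq.w
  have hj₁ : j₁ ≫ q = Spec.map (CommRingCat.ofHom (algebraMap S.R S.K)) := pullback.lift_snd _ _ _
  let j₀ : Spec (CommRingCat.of (ResidueField S.R)) ⟶ pullback f S.i₂ := pullback.lift l₀ _ hl₀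
  let y₁ := j₁ (closedPoint S.K)
  let y₀ := j₀ (closedPoint (ResidueField S.R))
  have hq₀ : q y₀ = closedPoint S.R := by
    show q (j₀ _) = _
    rw [← Scheme.Hom.comp_apply, pullback.lift_snd, LimLib.DVR.map_closedPoint]
  have hsp : y₁ ⤳ y₀ := H _ _ y₀ y₁ (by
    show q y₁ ⤳ q y₀
    rw [hq₀]
    exact specializes_closedPoint _)
  obtain ⟨ρ, hρ⟩ := Spec.map_surjective ((pullback f S.i₂).fromSpecStalk y₀ ≫ q)
  let σ : (pullback f S.i₂).presheaf.stalk y₀ ⟶ CommRingCat.of S.K :=
    (pullback f S.i₂).presheaf.stalkSpecializes hsp ≫ Scheme.stalkClosedPointTo j₁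
  have hσ : Spec.map σ ≫ (pullback f S.i₂).fromSpecStalk y₀ = j₁ := by
    rw [Spec.map_comp, Category.assoc, Scheme.SpecMap_stalkSpecializes_fromSpecStalk,
      Scheme.Spec_stalkClosedPointTo_fromSpecStalk]
  have hcomp : ρ ≫ σ = CommRingCat.ofHom (algebraMap S.R S.K) := by
    apply Spec.map_injective
    rw [Spec.map_comp, hρ, ← Category.assoc, hσ, hj₁]
  haveI : IsLocalHom ρ.hom := by
    refine ((local_hom_TFAE ρ.hom).out 4 0).1 ?_
    have h : Spec.map ρ (closedPoint ((pullback f S.i₂).presheaf.stalk y₀)) = closedPoint S.R := by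
      rw [hρ, Scheme.Hom.comp_apply, Scheme.fromSpecStalk_closedPoint, hq₀]
    exact congrArg PrimeSpectrum.asIdeal h
  let σ' : (pullback f S.i₂).presheaf.stalk y₀ →+* S.K := σ.hom
  have hσρ : ∀ r : S.R, σ' (ρ.hom r) = algebraMap S.R S.K r := fun r =>
    RingHom.congr_fun (congrArg CommRingCat.Hom.hom hcomp) r
  have hmem : ∀ a, σ' a ∈ (algebraMap S.R S.K).range := by
    intro a
    rcases ValuationRing.isInteger_or_isInteger S.R (σ' a) with ⟨r, hr⟩ | ⟨r, hr⟩
    · exact ⟨r, hr⟩
    by_cases ha0 : σ' a = 0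
    · exact ⟨0, by rw [map_zero, ha0]⟩
    by_cases hr' : IsUnit r
    · obtain ⟨s, hs⟩ := hr'.exists_right_inv
      refine ⟨s, ?_⟩
      have h := congrArg (algebraMap S.R S.K) hs
      rw [map_mul, hr, map_one, inv_mul_eq_one₀ ha0] at h
      exact h.symm
    exfalso
    have h1 : a * ρ.hom r ∈ maximalIdeal ((pullback f S.i₂).presheaf.stalk y₀) :=
      Ideal.mul_mem_left _ _ fun hu => hr' (IsLocalHom.map_nonunit _ hu)
    have h2 : IsUnit (1 - a * ρ.hom r) := isUnit_one_sub_self_of_mem_nonunits _ h1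
    have h3 : σ' (ρ.hom r) = (σ' a)⁻¹ := (hσρ r).trans hr
    have h4 := h2.map σ'
    rw [map_sub, map_one, map_mul, h3, mul_inv_cancel₀ ha0, sub_self] at h4
    exact not_isUnit_zero h4
  let e := RingEquiv.ofBijective (algebraMap S.R S.K).rangeRestrict
    ⟨fun a b h => IsFractionRing.injective S.R S.K (congrArg Subtype.val h),
      (algebraMap S.R S.K).rangeRestrict_surjective⟩
  let τ : (pullback f S.i₂).presheaf.stalk y₀ ⟶ CommRingCat.of S.R :=
    CommRingCat.ofHom (e.symm.toRingHom.comp (σ'.codRestrict (algebraMap S.R S.K).range hmem))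
  have hτ : ρ ≫ τ = 𝟙 _ := by
    ext r
    refine e.injective ((e.apply_symm_apply _).trans (Subtype.ext ?_))
    exact hσρ r
  have hfac : (Spec.map τ ≫ (pullback f S.i₂).fromSpecStalk y₀ ≫ pullback.fst f S.i₂) ≫ f = S.i₂ := by
    rw [Category.assoc, Category.assoc, pullback.condition, ← Category.assoc (Scheme.fromSpecStalk _ _),
      ← hρ, ← Category.assoc, ← Spec.map_comp, hτ, Spec.map_id, Category.id_comp]
  exact ⟨⟨⟨_, by rw [← cancel_mono f, Category.assoc, hfac]; exact S.commSq.w.symm, hfac⟩⟩⟩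

end Groth.Agent.MonoVal
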